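import Cfsg.Agent.Omega.FOne.AT.Sec

/-!
# THEOREM AT (bb OMEGA #19477, helper201), steps (2)-(5)

* `Cor` : `SL₂(F) ≤ H` acts on `W`, natural modulo the fixed vectors, `V ≤ W` an invariant subspace covering `F²`;
* `QQ` : the pairs `(η, ψ)` such that some `g ∈ H` is `1 + η` modulo `y`, `v ↦ v + ψ(e v) y` on `V`;
* `exists_f` : one `r ∈ H`, trivial on `V` modulo `y` and moving a vector of the section, gives `f : W → F` and
  `χ : F → 𝔽₂` with `w ↦ w + (0, t f(w)) + χ(t w₀) y` in `H` for all `t`;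
* `Cor.false` : contradiction with the non-existence of over-offenders in `O`.
-/

set_option autoImplicit false
set_option linter.unusedSectionVars false

namespace Cfsg.Agent.Omega.FOne.AT

open Cfsg.Agent.Lib.SL2Mat Cfsg.Agent.Omega.NatPair
open Cfsg.Agent.Omega.FOne.Tvw (Base addself z2 eq_of_add_eq_zero' ap_inv inv_ap)

variable {W : Type*} [AddCommGroup W] [Module (ZMod 2) W] {F : Type*} [Field F]

/-- `{0, y}` -/
def Yy (y : W) : AddSubgroup W where
  carrier := {w | w = 0 ∨ w = y}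
  zero_mem' := Or.inl rfl
  add_mem' := by
    rintro a b (rfl | rfl) (rfl | rfl)
    · left; rw [add_zero]
    · right; rw [zero_add]
    · right; rw [add_zero]
    · left; exact addself _
  neg_mem' := by
    rintro a (rfl | rfl)
    · left; rw [neg_zero]
    · right; exact neg_eq_of_add_eq_zero_left (addself _)

theorem mem_Yy {y w : W} : w ∈ Yy y ↔ w = 0 ∨ w = y := Iff.rfl

theorem y_mem (y : W) : y ∈ Yy y := Or.inr rfl

theorem smul_y_mem (y : W) (c : ZMod 2) : c • y ∈ Yy y := by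
  rcases z2 c with rfl | rfl
  · rw [zero_smul]; exact (Yy y).zero_mem
  · rw [one_smul]; exact y_mem y

theorem mod_iff {y a b : W} : a + b ∈ Yy y ↔ a = b ∨ a = b + y := by
  rw [mem_Yy]
  constructor
  · rintro (h | h)
    · exact Or.inl (eq_of_add_eq_zero' h)
    · right
      linear_combination (norm := module) h - addself b
  · rintro (rfl | rfl)
    · exact Or.inl (addself _)
    · right
      linear_combination (norm := module) addself b

/-- the hypotheses of THEOREM AT on `SL₂(F) ≤ H` and `V` -/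
structure Cor (H : Subgroup (W ≃ₗ[ZMod 2] W)) (y : W) (V : Submodule (ZMod 2) W)
    (l : Matrix.SpecialLinearGroup (Fin 2) F →* (W ≃ₗ[ZMod 2] W)) (e : W →+ (Fin 2 → F)) : Prop extends Sl l e where
  base : Base H y
  lH : ∀ A, l A ∈ H
  ey : e y = 0
  yV : y ∈ V
  lV : ∀ A, ∀ v ∈ V, l A v ∈ V
  surV : ∀ x, ∃ v ∈ V, e v = x

variable {H : Subgroup (W ≃ₗ[ZMod 2] W)} {y : W} {V : Submodule (ZMod 2) W}
  {l : Matrix.SpecialLinearGroup (Fin 2) F →* (W ≃ₗ[ZMod 2] W)} {e : W →+ (Fin 2 → F)}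

theorem Base.fixY {y : W} (b : Base H y) {g : W ≃ₗ[ZMod 2] W} (hg : g ∈ H) {a : W} (ha : a ∈ Yy y) : g a = a := by
  rcases ha with rfl | rfl
  · exact map_zero g
  · exact b.fix g hg

theorem Base.one_of {y : W} (b : Base H y) {g : W ≃ₗ[ZMod 2] W} (hg : g ∈ H) (h : ∀ w, g w + w ∈ Yy y) : g = 1 :=
  b.faith g hg fun w => mod_iff.1 (h w)

theorem Base.eq_of {y : W} (b : Base H y) {g g' : W ≃ₗ[ZMod 2] W} (hg : g ∈ H) (hg' : g' ∈ H)
    (h : ∀ w, g w + g' w ∈ Yy y) : g = g' := by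
  have h1 : g * g'⁻¹ = 1 := Base.one_of b (H.mul_mem hg (H.inv_mem hg')) fun w => by
    have h2 := h (g'⁻¹ w)
    rw [ap_inv] at h2
    exact h2
  exact mul_inv_eq_one.1 h1

/-- `ap A` as an additive map -/
def apH (A : Matrix.SpecialLinearGroup (Fin 2) F) : (Fin 2 → F) →+ (Fin 2 → F) :=
  AddMonoidHom.mk' (ap A) (ap_add A)

theorem apH_apply (A : Matrix.SpecialLinearGroup (Fin 2) F) (x : Fin 2 → F) : apH A x = ap A x := rfl

/-- `g ∈ GL(W)` as an additive map -/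
def lin (g : W ≃ₗ[ZMod 2] W) : W →+ W := (g : W →ₗ[ZMod 2] W).toAddMonoidHom

theorem lin_apply (g : W ≃ₗ[ZMod 2] W) (w : W) : lin g w = g w := rfl

namespace Cor

variable (h : Cor H y V l e)

/-- the pairs `(η, ψ)` such that some `g ∈ H` is `1 + η` modulo `y`, `v ↦ v + ψ(e v) y` on `V` -/
def QQ : AddSubmonoid ((W →+ W) × ((Fin 2 → F) →+ ZMod 2)) where
  carrier := {p | (∀ w, p.1 w ∈ V) ∧ (∀ v ∈ V, p.1 v ∈ Yy y) ∧
    ∃ g ∈ H, (∀ w, g w + w + p.1 w ∈ Yy y) ∧ ∀ v ∈ V, g v = v + p.2 (e v) • y}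
  zero_mem' := by
    refine ⟨fun w => V.zero_mem, fun v _ => (Yy y).zero_mem, 1, H.one_mem, fun w => ?_, fun v _ => ?_⟩
    · change w + w + 0 ∈ Yy y
      rw [add_zero, addself]
      exact (Yy y).zero_mem
    · change v = v + (0 : ZMod 2) • y
      rw [zero_smul, add_zero]
  add_mem' := by
    rintro ⟨η, ψ⟩ ⟨η', ψ'⟩ ⟨h1, h2, g, hg, h3, h4⟩ ⟨h1', h2', g', hg', h3', h4'⟩
    refine ⟨fun w => V.add_mem (h1 w) (h1' w), fun v hv => (Yy y).add_mem (h2 v hv) (h2' v hv),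
      g * g', H.mul_mem hg hg', fun w => ?_, fun v hv => ?_⟩
    · change g (g' w) + w + (η w + η' w) ∈ Yy y
      have a1 := h3 w
      have a2 := h3' w
      have a3 := h3 (η' w)
      have a4 := h2 _ (h1' w)
      have a5 : g (g' w + w + η' w) = g' w + w + η' w := Base.fixY h.base hg a2
      rw [map_add, map_add] at a5
      simp only at a1 a2 a3 a4 a5
      have a6 : g (g' w) + w + (η w + η' w) =
          (g' w + w + η' w) + (g w + w + η w) + (g (η' w) + η' w + η (η' w)) + η (η' w) := by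
        linear_combination (norm := module) a5 - addself (g w) - addself (g (η' w)) - addself (η (η' w))
      rw [a6]
      exact (Yy y).add_mem ((Yy y).add_mem ((Yy y).add_mem a2 a1) a3) a4
    · change g (g' v) = v + (ψ (e v) + ψ' (e v)) • y
      have a1 := h4 v hv
      have a2 := h4' v hv
      simp only at a1 a2
      rw [a2, map_add, map_smul, h.base.fix g hg, a1, add_smul]
      abel

theorem mem_QQ {η : W →+ W} {ψ : (Fin 2 → F) →+ ZMod 2} : (η, ψ) ∈ h.QQ ↔ (∀ w, η w ∈ V) ∧ (∀ v ∈ V, η v ∈ Yy y) ∧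
    ∃ g ∈ H, (∀ w, g w + w + η w ∈ Yy y) ∧ ∀ v ∈ V, g v = v + ψ (e v) • y := Iff.rfl

/-- faithfulness -/
theorem ps_zero {η : W →+ W} {ψ : (Fin 2 → F) →+ ZMod 2} (hm : (η, ψ) ∈ h.QQ) (h0 : ∀ w, η w ∈ Yy y) : ψ = 0 := by
  obtain ⟨-, -, g, hg, h3, h4⟩ := h.mem_QQ.1 hm
  have h5 : g = 1 := Base.one_of h.base hg fun w => by
    have := (Yy y).add_mem (h3 w) (h0 w)
    rwa [add_assoc, addself, add_zero] at this
  refine AddMonoidHom.ext fun x => ?_
  obtain ⟨v, hv, rfl⟩ := h.surV x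
  have h6 := h4 v hv
  rw [h5] at h6
  change v = v + ψ (e v) • y at h6
  rcases z2 (ψ (e v)) with h7 | h7
  · exact h7
  · rw [h7, one_smul] at h6
    exact absurd (left_eq_add.1 h6) h.base.y0

section sec

variable [Fintype F] [DecidableEq F] [CharP F 2]

theorem sg_mem (x : Fin 2 → F) : sg h.toSl x ∈ V := by
  obtain ⟨v, hv, rfl⟩ := h.surV x
  rw [Sl.sg_e]
  exact V.add_mem hv (V.sum_mem fun s _ => h.lV _ v hv)

include h in
/-- `[W, L] ≤ V` -/
theorem comm_mem (A : Matrix.SpecialLinearGroup (Fin 2) F) (hν : ∃ ν : F, ν ≠ 0 ∧ ν ≠ 1) (w : W) : l A w + w ∈ V := by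
  obtain ⟨c, hc, hw⟩ := h.toSl.exists_dec w hν
  have h1 : l A w + w = l A (sg h.toSl (e w)) + sg h.toSl (e w) := by
    have h2 : l A w = l A (sg h.toSl (e w)) + c := by
      nth_rewrite 1 [hw]
      rw [map_add, h.tr _ c hc]
    have h3 : l A w + w = l A (sg h.toSl (e w)) + c + (sg h.toSl (e w) + c) := by
      rw [h2]; nth_rewrite 2 [hw]; rfl
    rw [h3]
    linear_combination (norm := module) addself c
  rw [h1]
  exact V.add_mem (h.lV _ _ (h.sg_mem _)) (h.sg_mem _)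

variable (hν : ∃ ν : F, ν ≠ 0 ∧ ν ≠ 1)
include hν

/-- conjugation by `l A` -/
theorem conj_mem {η : W →+ W} {ψ : (Fin 2 → F) →+ ZMod 2} (hm : (η, ψ) ∈ h.QQ)
    (A : Matrix.SpecialLinearGroup (Fin 2) F) : ((lin (l A)).comp η, ψ.comp (apH A⁻¹)) ∈ h.QQ := by
  obtain ⟨h1, h2, g, hg, h3, h4⟩ := h.mem_QQ.1 hm
  have hA := h.lH A
  refine h.mem_QQ.2 ⟨fun w => h.lV A _ (h1 w), fun v hv => ?_, l A * g * (l A)⁻¹,
    H.mul_mem (H.mul_mem hA hg) (H.inv_mem hA), fun w => ?_, fun v hv => ?_⟩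
  · change l A (η v) ∈ Yy y
    rw [Base.fixY h.base hA (h2 v hv)]
    exact h2 v hv
  · change l A (g ((l A)⁻¹ w)) + w + l A (η w) ∈ Yy y
    set u := (l A)⁻¹ w with hu
    have hw : l A u = w := ap_inv _ _
    have e1 : u + w ∈ V := by
      have := h.comm_mem A⁻¹ hν w
      rwa [map_inv] at this
    have e2 := h2 _ e1
    rw [map_add] at e2
    have e3 := (Yy y).add_mem (h3 u) e2
    have e4 := Base.fixY h.base hA e3
    have e5 : l A (g u) + w + l A (η w) = g u + u + η u + (η u + η w) := by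
      rw [map_add, map_add, map_add, map_add, hw] at e4
      linear_combination (norm := module) e4 - addself (l A (η u))
    rw [e5]; exact e3
  · change l A (g ((l A)⁻¹ v)) = v + ψ (ap A⁻¹ (e v)) • y
    have e1 : (l A)⁻¹ v ∈ V := by
      have := h.lV A⁻¹ v hv
      rwa [map_inv] at this
    have e2 : e ((l A)⁻¹ v) = ap A⁻¹ (e v) := by
      have := h.act A⁻¹ v
      rwa [map_inv] at this
    rw [h4 _ e1, e2, map_add, ap_inv, map_smul, h.base.fix _ hA]

/-- **purification** -/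
theorem pur {η : W →+ W} {ψ : (Fin 2 → F) →+ ZMod 2} (hm : (η, ψ) ∈ h.QQ) :
    ((sg h.toSl).comp (e.comp η), ψ) ∈ h.QQ := by
  have h1 : (η, ψ) + ∑ s : Fˣ, ((lin (l (tor s))).comp η, ψ.comp (apH (tor s)⁻¹)) ∈ h.QQ :=
    h.QQ.add_mem hm (h.QQ.sum_mem fun s _ => h.conj_mem hν hm _)
  convert h1 using 1
  refine Prod.ext ?_ ?_
  · rw [Prod.fst_add, Prod.fst_sum]
    ext w
    rw [AddMonoidHom.add_apply, AddMonoidHom.finsetSum_apply]
    exact h.toSl.sg_e (η w)
  · rw [Prod.snd_add, Prod.snd_sum]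
    refine AddMonoidHom.ext fun x => ?_
    rw [AddMonoidHom.add_apply, AddMonoidHom.finsetSum_apply]
    have h2 : ∑ s : Fˣ, (ψ.comp (apH (tor s)⁻¹)) x = 0 := by
      have h3 : ∀ s : Fˣ, (ψ.comp (apH (tor s)⁻¹)) x = ψ (ap (tor s⁻¹) x) := by
        intro s
        have h4 : (tor s)⁻¹ = tor s⁻¹ := by
          refine inv_eq_of_mul_eq_one_right ?_
          rw [tor_mul, mul_inv_cancel]
          refine ext_ent ?_ ?_ ?_ ?_ <;> simp
        rw [h4]; rfl
      simp only [h3]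
      rw [← map_sum]
      have h5 : ∑ s : Fˣ, ap (tor s⁻¹) x = 0 := by
        simp only [ap_tor]
        apply ext2
        · rw [Finset.sum_apply]
          refine Eq.trans ?_ (sum_units_inv_mul hν (x 0))
          exact Finset.sum_congr rfl fun s _ => by simp
        · rw [Finset.sum_apply]
          refine Eq.trans ?_ (sum_units_mul hν (x 1))
          exact Finset.sum_congr rfl fun s _ => by simp
      rw [h5, map_zero]
    rw [h2, add_zero]

/-- the pairs `(γ, ψ)`, `γ : W → F²` -/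
def PP (h : Cor H y V l e) (γ : W →+ (Fin 2 → F)) (ψ : (Fin 2 → F) →+ ZMod 2) : Prop :=
  ((sg h.toSl).comp γ, ψ) ∈ h.QQ

omit hν in
theorem PP.add {γ γ' : W →+ (Fin 2 → F)} {ψ ψ' : (Fin 2 → F) →+ ZMod 2} (h1 : h.PP γ ψ) (h2 : h.PP γ' ψ') :
    h.PP (γ + γ') (ψ + ψ') := by
  have h3 := h.QQ.add_mem h1 h2
  unfold PP
  convert h3 using 1
  refine Prod.ext ?_ rfl
  ext w
  exact map_add (sg h.toSl) _ _

theorem PP.ap {γ : W →+ (Fin 2 → F)} {ψ : (Fin 2 → F) →+ ZMod 2} (h1 : h.PP γ ψ)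
    (A : Matrix.SpecialLinearGroup (Fin 2) F) : h.PP ((apH A).comp γ) (ψ.comp (apH A⁻¹)) := by
  have h2 := h.pur hν (h.conj_mem hν h1 A)
  unfold PP
  convert h2 using 1
  refine Prod.ext ?_ rfl
  ext w
  change sg h.toSl (NatPair.ap A (γ w)) = sg h.toSl (e (l A (sg h.toSl (γ w))))
  rw [h.act, h.toSl.e_sg hν]

end sec

end Cor

end Cfsg.Agent.Omega.FOne.AT
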