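import Cfsg.Agent.Omega.FOne.AT.FMap

/-!
# THEOREM AT, steps (3)-(5)
-/

set_option autoImplicit false
set_option linter.unusedSectionVars false

namespace Cfsg.Agent.Omega.FOne.AT

open Cfsg.Agent.Lib.SL2Mat Cfsg.Agent.Omega.NatPair
open Cfsg.Agent.Omega.FOne.Tvw (Base addself z2 eq_of_add_eq_zero' ap_inv inv_ap)

variable {W : Type*} [AddCommGroup W] [Module (ZMod 2) W] {F : Type*} [Field F]
variable {H : Subgroup (W ≃ₗ[ZMod 2] W)} {y : W} {V : Submodule (ZMod 2) W}
  {l : Matrix.SpecialLinearGroup (Fin 2) F →* (W ≃ₗ[ZMod 2] W)} {e : W →+ (Fin 2 → F)}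

/-- `(a, b) ↦ ![a, b]` is additive in each place -/
theorem vec_add (a b c d : F) : (![a + c, b + d] : Fin 2 → F) = ![a, b] + ![c, d] := by
  apply ext2 <;> simp

theorem vec_zero : (![0, 0] : Fin 2 → F) = 0 := by apply ext2 <;> simp

/-- the output of step (2) -/
structure FD (H : Subgroup (W ≃ₗ[ZMod 2] W)) (y : W) (V : Submodule (ZMod 2) W) (e : W →+ (Fin 2 → F))
    (σ : (Fin 2 → F) →+ W) (f : W →+ F) (χ : F →+ ZMod 2) : Prop where
  ne : χ ≠ 0
  fV : ∀ v ∈ V, f v = 0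
  ex : ∀ t : F, ∃ g ∈ H, (∀ w, g w + w + σ ![0, t * f w] ∈ Yy y) ∧ ∀ v ∈ V, g v = v + χ (t * e v 0) • y

namespace Cor

variable (h : Cor H y V l e) [Fintype F] [DecidableEq F] [CharP F 2] (hν : ∃ ν : F, ν ≠ 0 ∧ ν ≠ 1)
  {f : W →+ F} {χ : F →+ ZMod 2} (d : FD H y V e (sg h.toSl) f χ)
include hν d

omit hν in
theorem fy : f y = 0 := d.fV y h.yV

omit hν in
theorem fsg (x : Fin 2 → F) : f (sg h.toSl x) = 0 := d.fV _ (h.sg_mem x)

omit hν in
theorem fl (A : Matrix.SpecialLinearGroup (Fin 2) F) (hν : ∃ ν : F, ν ≠ 0 ∧ ν ≠ 1) (w : W) : f (l A w) = f w := by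
  have h1 := d.fV _ (h.comm_mem A hν w)
  rw [map_add] at h1
  exact CharTwo.add_eq_zero.1 h1

/-- **the exact action of the elements of step (2)** -/
theorem exact (t : F) : ∃ g ∈ H, ∀ w, g w = w + sg h.toSl ![0, t * f w] + χ (t * e w 0) • y := by
  choose U hU hU1 hU2 using d.ex
  have hY := fun (t : F) {a : W} (ha : a ∈ Yy y) => Base.fixY h.base (hU t) ha
  -- multiplicativity
  have hmul : ∀ s t, U (s + t) = U s * U t := by
    intro s t
    refine Base.eq_of h.base (hU _) (H.mul_mem (hU s) (hU t)) fun w => ?_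
    change U (s + t) w + U s (U t w) ∈ Yy y
    have h1 := hU1 (s + t) w
    have h2 := hU1 t w
    have h3 := hU1 s w
    have h4 := hY s h2
    have h5 := hU2 s _ (h.sg_mem ![0, t * f w])
    have h6 : sg h.toSl ![0, (s + t) * f w] = sg h.toSl ![0, s * f w] + sg h.toSl ![0, t * f w] := by
      rw [← map_add, ← vec_add, add_zero, add_mul]
    rw [h.toSl.e_sg hν] at h5
    simp only [Matrix.cons_val_zero, mul_zero, map_zero, zero_smul, add_zero] at h5
    rw [map_add, map_add, h5] at h4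
    have h7 : U (s + t) w + U s (U t w) = (U (s + t) w + w + sg h.toSl ![0, (s + t) * f w]) +
        (U t w + w + sg h.toSl ![0, t * f w]) + (U s w + w + sg h.toSl ![0, s * f w]) := by
      rw [h6]
      linear_combination (norm := module) h4 - addself (U s w) - addself (sg h.toSl ![0, t * f w]) -
        addself (sg h.toSl ![0, s * f w]) - addself w
    rw [h7]
    exact (Yy y).add_mem ((Yy y).add_mem h1 h2) h3
  -- the torus
  have htor : ∀ (s : Fˣ) (t : F), l (tor s) * U t * (l (tor s))⁻¹ = U ((s : F)⁻¹ * t) := by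
    intro s t
    have hs := h.lH (tor s)
    refine Base.eq_of h.base (H.mul_mem (H.mul_mem hs (hU t)) (H.inv_mem hs)) (hU _) fun w => ?_
    change l (tor s) (U t ((l (tor s))⁻¹ w)) + U ((s : F)⁻¹ * t) w ∈ Yy y
    set u := (l (tor s))⁻¹ w with hu
    have hw : l (tor s) u = w := ap_inv _ _
    have hfu : f u = f w := by rw [← hw, h.fl d _ hν]
    have h1 := hU1 t u
    have h2 := Base.fixY h.base hs h1
    rw [map_add, map_add, hw, Sl.tor_sg, ap_tor, hfu] at h2
    simp only [Matrix.cons_val_zero, Matrix.cons_val_one, mul_zero] at h2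
    have h3 := hU1 ((s : F)⁻¹ * t) w
    have h4 : l (tor s) (U t u) + U ((s : F)⁻¹ * t) w =
        (U t u + u + sg h.toSl ![0, t * f u]) + (U ((s : F)⁻¹ * t) w + w + sg h.toSl ![0, (s : F)⁻¹ * t * f w]) := by
      rw [mul_assoc, hfu]
      linear_combination (norm := module) h2 - addself w - addself (sg h.toSl ![0, (s : F)⁻¹ * (t * f w)])
    rw [h4]
    exact (Yy y).add_mem h1 h3
  -- the error on `ker e`
  have hR : ∀ c, e c = 0 → U t c = c + sg h.toSl ![0, t * f c] := by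
    intro c hc
    let R : F →+ W := AddMonoidHom.mk' (fun t => U t c + c + sg h.toSl ![0, t * f c]) fun s t => by
      have h2 := hU1 t c
      have h4 := hY s h2
      have h5 := hU2 s _ (h.sg_mem ![0, t * f c])
      rw [h.toSl.e_sg hν] at h5
      simp only [Matrix.cons_val_zero, mul_zero, map_zero, zero_smul, add_zero] at h5
      rw [map_add, map_add, h5] at h4
      have h6 : sg h.toSl ![0, (s + t) * f c] = sg h.toSl ![0, s * f c] + sg h.toSl ![0, t * f c] := by
        rw [← map_add, ← vec_add, add_zero, add_mul]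
      have h7 : U (s + t) c = U s (U t c) := by rw [hmul]; rfl
      rw [h7, h6]
      linear_combination (norm := module) h4 - addself (U s c)
    have hRt : ∀ s, R s = U s c + c + sg h.toSl ![0, s * f c] := fun s => rfl
    have h1 : ∀ s : Fˣ, R ((s : F)⁻¹ * t) = R t := by
      intro s
      have h2 : U ((s : F)⁻¹ * t) c = l (tor s) (U t c) := by
        rw [← htor]
        change l (tor s) (U t ((l (tor s))⁻¹ c)) = _
        have h3 : (l (tor s))⁻¹ c = c := by
          rw [← map_inv]; exact h.tr _ c hc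
        rw [h3]
      have h3 := hU1 t c
      have h4 := Base.fixY h.base (h.lH (tor s)) h3
      rw [map_add, map_add, h.tr _ c hc, Sl.tor_sg, ap_tor] at h4
      simp only [Matrix.cons_val_zero, Matrix.cons_val_one, mul_zero] at h4
      rw [hRt, hRt, h2, ← h4, mul_assoc]
    have h2 : R t = 0 := by
      have h3 : ∑ s : Fˣ, R ((s : F)⁻¹ * t) = R t := by
        simp only [h1]
        rw [Finset.sum_const, Finset.card_univ]
        exact odd_nsmul odd_units _
      rw [← map_sum, sum_units_inv_mul hν, map_zero] at h3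
      exact h3.symm
    rw [hRt] at h2
    linear_combination (norm := module) h2 - addself c - addself (sg h.toSl ![0, t * f c])
  refine ⟨U t, hU t, fun w => ?_⟩
  obtain ⟨c, hc, hw⟩ := h.toSl.exists_dec w hν
  have h1 : f c = f w := by
    rw [hw, map_add, h.fsg d, zero_add]
  have h2 := hU2 t _ (h.sg_mem (e w))
  rw [h.toSl.e_sg hν] at h2
  have h3 : U t w = U t (sg h.toSl (e w)) + U t c := by
    nth_rewrite 1 [hw]
    rw [map_add]
  rw [h3, h2, hR c hc, h1]
  have hw' := hw.symm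
  linear_combination (norm := module) hw'

/-- **step (4)**: the elements of `O` -/
theorem mem_O {O : Subgroup (W ≃ₗ[ZMod 2] W)} {θ : W} (hθ : θ ∈ V) (hB : ∀ b, l (up b) ∈ O)
    (nO : ∀ g ∈ H, g θ + θ ∈ Yy y → ∀ o ∈ O, g * o * g⁻¹ ∈ O) (b t : F) :
    ∃ k ∈ O, ∀ w, k w = w + sg h.toSl ![b * t * f w, 0] + h.toSl.ta hν (b * t ^ 2 * f w ^ 2) +
      χ (b * t * e w 1) • y + χ (b * t ^ 2 * f w) • y := by
  obtain ⟨U, hU, hUw⟩ := h.exact hν d t
  have hy := h.base.fix
  -- `U` is an involution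
  have hUinv : U⁻¹ = U := by
    rw [inv_eq_iff_mul_eq_one]
    refine Base.one_of h.base (H.mul_mem hU hU) fun w => ?_
    change U (U w) + w ∈ Yy y
    rw [hUw w, map_add, map_add, map_smul, hy U hU, hUw w, hUw (sg h.toSl _), h.toSl.e_sg hν, h.fsg d]
    simp only [Matrix.cons_val_zero, mul_zero, map_zero, zero_smul, add_zero]
    rw [vec_zero, map_zero, add_zero]
    have h1 : w + sg h.toSl ![0, t * f w] + χ (t * e w 0) • y + sg h.toSl ![0, t * f w] + χ (t * e w 0) • y + w = 0 := by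
      linear_combination (norm := module) addself w + addself (sg h.toSl ![0, t * f w]) + addself (χ (t * e w 0) • y)
    rw [h1]
    exact (Yy y).zero_mem
  have hθU : U θ + θ ∈ Yy y := by
    rw [hUw, d.fV θ hθ, mul_zero, vec_zero, map_zero, add_zero]
    have h1 : θ + χ (t * e θ 0) • y + θ = χ (t * e θ 0) • y := by
      linear_combination (norm := module) addself θ
    rw [h1]
    exact smul_y_mem y _
  refine ⟨l (up b) * (U * (l (up b)) * U⁻¹), O.mul_mem (hB b) (nO U hU hθU _ (hB b)), fun w => ?_⟩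
  change l (up b) (U (l (up b) (U⁻¹ w))) = _
  rw [hUinv]
  set w1 := U w with hw1
  have e1 : w1 = w + sg h.toSl ![0, t * f w] + χ (t * e w 0) • y := hUw w
  have f1 : f w1 = f w := by
    rw [e1, map_add, map_add, h.fsg d, add_zero]
    rcases z2 (χ (t * e w 0)) with h2 | h2 <;> rw [h2]
    · rw [zero_smul, map_zero, add_zero]
    · rw [one_smul, h.fy d, add_zero]
  have e2 : e w1 = e w + ![0, t * f w] := by
    rw [e1, map_add, map_add, h.toSl.e_sg hν]
    rcases z2 (χ (t * e w 0)) with h2 | h2 <;> rw [h2]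
    · rw [zero_smul, map_zero, add_zero]
    · rw [one_smul, h.ey, add_zero]
  -- `B w1`
  set w2 := l (up b) w1 with hw2
  have e3 : w2 = w1 + sg h.toSl ![b * e w1 1, 0] + h.toSl.ta hν (b * e w1 1 ^ 2) := h.toSl.up_ap hν b w1
  have f2 : f w2 = f w := by rw [hw2, h.fl d _ hν, f1]
  have e4 : e w2 0 = e w 0 + b * (e w 1 + t * f w) := by
    rw [hw2, h.act, ap_zero', e2]
    simp
  have hBB : l (up b) w2 = w1 := by
    rw [hw2, ← l_mul, up_mul, CharTwo.add_self_eq_zero, up_zero, l_one]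
  have h5 : U w2 = w2 + sg h.toSl ![0, t * f w] + χ (t * (e w 0 + b * (e w 1 + t * f w))) • y := by
    rw [hUw, f2, e4]
  rw [h5, map_add, map_add, hBB, map_smul, hy _ (h.lH _), h.toSl.up_sg hν, e1]
  have h6 : t * (e w 0 + b * (e w 1 + t * f w)) = t * e w 0 + (b * t * e w 1 + b * t ^ 2 * f w) := by ring
  rw [h6, map_add, map_add, add_smul, add_smul]
  simp only [Matrix.cons_val_one, Matrix.cons_val_fin_one]
  have h7 : b * (t * f w) = b * t * f w := by ring
  have h8 : b * (t * f w) ^ 2 = b * t ^ 2 * f w ^ 2 := by ring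
  rw [h8, h7]
  linear_combination (norm := module) addself (χ (t * e w 0) • y) + addself (sg h.toSl ![0, t * f w])

omit hν in
theorem f_ta (hν : ∃ ν : F, ν ≠ 0 ∧ ν ≠ 1) (s : F) : f (h.toSl.ta hν s) = 0 := by
  refine d.fV _ ?_
  change l (up s) (sg h.toSl ![0, 1]) + sg h.toSl (ap (up s) ![0, 1]) ∈ V
  exact V.add_mem (h.lV _ _ (h.sg_mem _)) (h.sg_mem _)

end Cor

/-- the action of the elements of `O` -/
noncomputable def Ef (σ : (Fin 2 → F) →+ W) (τ : F →+ W) (f : W →+ F) (χ : F →+ ZMod 2) (e : W →+ (Fin 2 → F)) (y : W)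
    (x s : F) (w : W) : W :=
  w + σ ![x * f w, 0] + τ (s * f w ^ 2) + χ (x * e w 1) • y + χ (s * f w) • y

namespace Cor

variable (h : Cor H y V l e) [Fintype F] [DecidableEq F] [CharP F 2] (hν : ∃ ν : F, ν ≠ 0 ∧ ν ≠ 1)
  {f : W →+ F} {χ : F →+ ZMod 2} (d : FD H y V e (sg h.toSl) f χ)
include hν d

theorem f_Ef (x s : F) (w : W) : f (Ef (sg h.toSl) (h.toSl.ta hν) f χ e y x s w) = f w := by
  unfold Ef
  rw [map_add, map_add, map_add, map_add, h.fsg d, h.f_ta d hν]
  have h1 : ∀ c : ZMod 2, f (c • y) = 0 := by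
    intro c
    rcases z2 c with rfl | rfl
    · rw [zero_smul, map_zero]
    · rw [one_smul, h.fy d]
  rw [h1, h1]
  simp

omit d in
theorem e_Ef (x s : F) (w : W) :
    e (Ef (sg h.toSl) (h.toSl.ta hν) f χ e y x s w) = e w + ![x * f w, 0] := by
  unfold Ef
  rw [map_add, map_add, map_add, map_add, h.toSl.e_sg hν, h.toSl.e_ta hν]
  have h1 : ∀ c : ZMod 2, e (c • y) = 0 := by
    intro c
    rcases z2 c with rfl | rfl
    · rw [zero_smul, map_zero]
    · rw [one_smul, h.ey]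
  rw [h1, h1]
  simp

theorem Ef_Ef (x s x' s' : F) (w : W) :
    Ef (sg h.toSl) (h.toSl.ta hν) f χ e y x s (Ef (sg h.toSl) (h.toSl.ta hν) f χ e y x' s' w) =
      Ef (sg h.toSl) (h.toSl.ta hν) f χ e y (x + x') (s + s') w := by
  have h1 := h.f_Ef hν d x' s' w
  have h2 := congrFun (h.e_Ef (f := f) (χ := χ) hν x' s' w) 1
  rw [Pi.add_apply] at h2
  simp only [Matrix.cons_val_one, Matrix.cons_val_fin_one, add_zero] at h2
  set u := Ef (sg h.toSl) (h.toSl.ta hν) f χ e y x' s' w with hu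
  have h3 : Ef (sg h.toSl) (h.toSl.ta hν) f χ e y x s u =
      u + sg h.toSl ![x * f w, 0] + h.toSl.ta hν (s * f w ^ 2) + χ (x * e w 1) • y + χ (s * f w) • y := by
    unfold Ef
    rw [h1, h2]
  rw [h3, hu]
  unfold Ef
  have e1 : (![(x + x') * f w, 0] : Fin 2 → F) = ![x * f w, 0] + ![x' * f w, 0] := by
    rw [← vec_add, add_zero, add_mul]
  rw [e1, add_mul, add_mul, add_mul, map_add, map_add, map_add, map_add, add_smul, add_smul]
  abel

/-- all the elements lie in `O` -/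
theorem exists_O {O : Subgroup (W ≃ₗ[ZMod 2] W)} {θ : W} (hθ : θ ∈ V) (hB : ∀ b, l (up b) ∈ O)
    (nO : ∀ g ∈ H, g θ + θ ∈ Yy y → ∀ o ∈ O, g * o * g⁻¹ ∈ O) (x s : F) :
    ∃ k ∈ O, ∀ w, k w = Ef (sg h.toSl) (h.toSl.ta hν) f χ e y x s w := by
  have hadd : ∀ x s x' s' : F, (∃ k ∈ O, ∀ w, k w = Ef (sg h.toSl) (h.toSl.ta hν) f χ e y x s w) →
      (∃ k ∈ O, ∀ w, k w = Ef (sg h.toSl) (h.toSl.ta hν) f χ e y x' s' w) →
      ∃ k ∈ O, ∀ w, k w = Ef (sg h.toSl) (h.toSl.ta hν) f χ e y (x + x') (s + s') w := by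
    rintro x s x' s' ⟨k, hk, h1⟩ ⟨k', hk', h1'⟩
    refine ⟨k * k', O.mul_mem hk hk', fun w => ?_⟩
    change k (k' w) = _
    rw [h1', h1, h.Ef_Ef hν d]
  have hgen : ∀ b t : F, ∃ k ∈ O, ∀ w, k w = Ef (sg h.toSl) (h.toSl.ta hν) f χ e y (b * t) (b * t ^ 2) w :=
    fun b t => h.mem_O hν d hθ hB nO b t
  obtain ⟨ν, hν0, hν1⟩ := id hν
  have hν2 : 1 + ν ≠ 0 := fun h0 => hν1 (CharTwo.add_eq_zero.1 h0).symm
  have h0 : ∀ s : F, ∃ k ∈ O, ∀ w, k w = Ef (sg h.toSl) (h.toSl.ta hν) f χ e y 0 s w := by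
    intro s
    have h1 := hgen (s / (1 + ν)) 1
    have h2 := hgen (s / (1 + ν) / ν) ν
    have h3 := hadd _ _ _ _ h1 h2
    have e1 : s / (1 + ν) * 1 + s / (1 + ν) / ν * ν = 0 := by
      rw [mul_one, div_mul_cancel₀ _ hν0]
      exact CharTwo.add_self_eq_zero _
    have e2 : s / (1 + ν) * 1 ^ 2 + s / (1 + ν) / ν * ν ^ 2 = s := by
      have : s / (1 + ν) / ν * ν ^ 2 = s / (1 + ν) * ν := by field_simp
      rw [this]
      field_simp
    rw [e1, e2] at h3
    exact h3
  have h1 := hgen x 1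
  have h2 := hadd _ _ _ _ h1 (h0 (s + x))
  have e1 : x * 1 + 0 = x := by ring
  have e2 : x * 1 ^ 2 + (s + x) = s := by
    have := CharTwo.add_self_eq_zero x
    linear_combination this
  rw [e1, e2] at h2
  exact h2

/-- **THEOREM AT**, the end -/
theorem end_false [Finite W] {O : Subgroup (W ≃ₗ[ZMod 2] W)} {θ : W} (hθ : θ ∈ V) (hB : ∀ b, l (up b) ∈ O)
    (nO : ∀ g ∈ H, g θ + θ ∈ Yy y → ∀ o ∈ O, g * o * g⁻¹ ∈ O)
    (hNO : ∀ A : Subgroup (W ≃ₗ[ZMod 2] W), A ≤ O → (∀ a ∈ A, a * a = 1) → (∀ a ∈ A, ∀ b ∈ A, a * b = b * a) →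
      Nat.card A * Nat.card {w : W // ∀ a ∈ A, a w = w ∨ a w = w + y} ≤ Nat.card W) : False := by
  choose K hKO hK using h.exists_O hν d hθ hB nO
  have hEz : ∀ w, Ef (sg h.toSl) (h.toSl.ta hν) f χ e y 0 0 w = w := by
    intro w
    unfold Ef
    simp [vec_zero]
  have hK0 : K 0 0 = 1 := LinearEquiv.ext fun w => by rw [hK, hEz]; rfl
  have hKmul : ∀ x s x' s', K x s * K x' s' = K (x + x') (s + s') := by
    intro x s x' s'
    refine LinearEquiv.ext fun w => ?_
    change K x s (K x' s' w) = _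
    rw [hK, hK, hK, h.Ef_Ef hν d]
  have hKsq : ∀ x s, K x s * K x s = 1 := by
    intro x s
    rw [hKmul, CharTwo.add_self_eq_zero, CharTwo.add_self_eq_zero, hK0]
  let A : Subgroup (W ≃ₗ[ZMod 2] W) :=
    { carrier := {k | ∃ x s, K x s = k}
      one_mem' := ⟨0, 0, hK0⟩
      mul_mem' := by
        rintro _ _ ⟨x, s, rfl⟩ ⟨x', s', rfl⟩
        exact ⟨_, _, (hKmul x s x' s').symm⟩
      inv_mem' := by
        rintro _ ⟨x, s, rfl⟩
        exact ⟨x, s, (inv_eq_of_mul_eq_one_left (hKsq x s)).symm⟩ }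
  have hKA : ∀ x s, K x s ∈ A := fun x s => ⟨x, s, rfl⟩
  have h1 := hNO A (by rintro _ ⟨x, s, rfl⟩; exact hKO x s) (by rintro _ ⟨x, s, rfl⟩; exact hKsq x s) (by
    rintro _ ⟨x, s, rfl⟩ _ ⟨x', s', rfl⟩
    rw [hKmul, hKmul, add_comm x, add_comm s])
  have hfin : Finite (W ≃ₗ[ZMod 2] W) := DFunLike.finite _
  -- `f ≠ 0`
  have hf : ∃ w, f w ≠ 0 := by
    by_contra hcon
    push Not at hcon
    apply d.ne
    refine AddMonoidHom.ext fun t => ?_
    obtain ⟨g, hg, h2, h3⟩ := d.ex t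
    have h4 : g = 1 := Base.one_of h.base hg fun w => by
      have := h2 w
      rwa [hcon, mul_zero, vec_zero, map_zero, add_zero] at this
    obtain ⟨v, hv, hv1⟩ := h.surV ![1, 0]
    have h5 := h3 v hv
    rw [h4, hv1] at h5
    change v = v + χ (t * 1) • y at h5
    rw [mul_one] at h5
    rcases z2 (χ t) with h6 | h6
    · exact h6
    · rw [h6, one_smul] at h5
      exact absurd (left_eq_add.1 h5) h.base.y0
  -- the first parameter is determined
  have hx : ∀ x s x' s', K x s = K x' s' → x = x' := by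
    intro x s x' s' hE
    obtain ⟨w, hw⟩ := hf
    have h2 : K x s w = K x' s' w := by rw [hE]
    rw [hK, hK] at h2
    have h3 := congrArg (fun z => e z 0) h2
    simp only [h.e_Ef (f := f) (χ := χ) hν, Pi.add_apply, Matrix.cons_val_zero] at h3
    exact mul_right_cancel₀ hw (add_left_cancel h3)
  -- counting
  have h2 : Nat.card f.ker * Nat.card f.range = Nat.card W := by
    rw [← AddSubgroup.index_ker]
    exact f.ker.card_mul_index
  have hinc : ∀ w ∈ f.ker, ∀ a ∈ A, a w = w ∨ a w = w + y := by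
    rintro w hw _ ⟨x, s, rfl⟩
    have hw' : f w = 0 := hw
    rw [← mod_iff, hK]
    unfold Ef
    rw [hw']
    simp only [mul_zero, vec_zero, map_zero, add_zero, zero_smul, ne_eq, OfNat.ofNat_ne_zero, not_false_eq_true, zero_pow]
    have e1 : w + χ (x * e w 1) • y + w = χ (x * e w 1) • y := by
      linear_combination (norm := module) addself w
    rw [e1]
    exact smul_y_mem y _
  have h3 : Nat.card f.ker ≤ Nat.card {w : W // ∀ a ∈ A, a w = w ∨ a w = w + y} :=
    Nat.card_le_card_of_injective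
      (fun w : f.ker => (⟨w.1, hinc w.1 w.2⟩ : {w : W // ∀ a ∈ A, a w = w ∨ a w = w + y}))
      fun a b hab => Subtype.ext
        (congrArg (fun z : {w : W // ∀ a ∈ A, a w = w ∨ a w = w + y} => (z : W)) hab)
  have h4 : Nat.card A ≤ Nat.card f.range := by
    have h5 : 0 < Nat.card f.ker := Nat.card_pos
    have h6 : Nat.card f.ker * Nat.card A ≤ Nat.card f.ker * Nat.card f.range := by
      rw [h2, mul_comm]
      exact (Nat.mul_le_mul_left _ h3).trans h1
    exact Nat.le_of_mul_le_mul_left h6 h5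
  let g0 : F → A := fun x => ⟨K x 0, hKA x 0⟩
  have hg0 : Function.Injective g0 := fun a b hab => hx _ _ _ _ (congrArg Subtype.val hab)
  have h5 : Nat.card F ≤ Nat.card A := Nat.card_le_card_of_injective g0 hg0
  have h6 : Function.Surjective f := by
    rw [← AddMonoidHom.range_eq_top]
    refine AddSubgroup.eq_top_of_le_card _ ?_
    exact h5.trans h4
  have h7 : Nat.card f.range ≤ Nat.card F := Nat.card_le_card_of_injective _ Subtype.val_injective
  have hg1 : Function.Surjective g0 := by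
    have h8 : Nat.card A ≤ Nat.card F := h4.trans h7
    exact (hg0.bijective_of_nat_card_le h8).2
  -- `K 0 s = 1`
  have h8 : ∀ s, K 0 s = 1 := by
    intro s
    obtain ⟨x, hx'⟩ := hg1 ⟨K 0 s, hKA 0 s⟩
    have h9 : K x 0 = K 0 s := congrArg Subtype.val hx'
    have h10 := hx _ _ _ _ h9
    rw [← h9, h10, hK0]
  have h9 : ∀ s w, h.toSl.ta hν (s * f w ^ 2) + χ (s * f w) • y = 0 := by
    intro s w
    have h10 : K 0 s w = w := by rw [h8]; rfl
    rw [hK] at h10
    unfold Ef at h10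
    simp only [zero_mul, vec_zero, map_zero, add_zero, zero_smul] at h10
    have h11 : w + (h.toSl.ta hν (s * f w ^ 2) + χ (s * f w) • y) = w := by
      rw [← add_assoc]
      exact h10
    exact add_eq_left.1 h11
  obtain ⟨ν, hν0, hν1⟩ := id hν
  obtain ⟨w1, hw1⟩ := h6 1
  obtain ⟨w2, hw2⟩ := h6 ν
  apply d.ne
  refine AddMonoidHom.ext fun t => ?_
  change χ t = 0
  have hq : ν ^ 2 + ν ≠ 0 := by
    intro h0
    have : ν * (ν + 1) = 0 := by linear_combination h0
    rcases mul_eq_zero.1 this with h1 | h1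
    · exact hν0 h1
    · exact hν1 (CharTwo.add_eq_zero.1 h1)
  set s := t / (ν ^ 2 + ν) with hs
  have e1 := h9 (s * ν ^ 2) w1
  have e2 := h9 s w2
  rw [hw1] at e1
  rw [hw2] at e2
  rw [one_pow, mul_one] at e1
  have e3 : (χ (s * ν ^ 2) + χ (s * ν)) • y = 0 := by
    rw [add_smul]
    linear_combination (norm := module) e1 + e2 - addself (h.toSl.ta hν (s * ν ^ 2))
  rw [← map_add, ← mul_add, hs, div_mul_cancel₀ _ hq] at e3
  rcases z2 (χ t) with h10 | h10
  · exact h10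
  · rw [h10, one_smul] at e3
    exact absurd e3 h.base.y0

omit d in
/-- **THEOREM AT**, steps (2)-(5) -/
theorem core_false [Finite W] {r : W ≃ₗ[ZMod 2] W} (hr : r ∈ H)
    (hrV : ∀ v ∈ V, r v + v ∈ Yy y) (hx : ∃ x, r (sg h.toSl x) ≠ sg h.toSl x)
    {O : Subgroup (W ≃ₗ[ZMod 2] W)} {θ : W} (hθ : θ ∈ V) (hB : ∀ b, l (up b) ∈ O)
    (nO : ∀ g ∈ H, g θ + θ ∈ Yy y → ∀ o ∈ O, g * o * g⁻¹ ∈ O)
    (hNO : ∀ A : Subgroup (W ≃ₗ[ZMod 2] W), A ≤ O → (∀ a ∈ A, a * a = 1) → (∀ a ∈ A, ∀ b ∈ A, a * b = b * a) →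
      Nat.card A * Nat.card {w : W // ∀ a ∈ A, a w = w ∨ a w = w + y} ≤ Nat.card W) : False := by
  obtain ⟨f, χ, h1, h2, h3⟩ := h.exists_f hν hr hrV hx
  exact h.end_false hν (d := ⟨h1, h2, h3⟩) hθ hB nO hNO

end Cor

end Cfsg.Agent.Omega.FOne.AT
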