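import Cfsg.Agent.Omega.FOne.AT.Core

/-!
# THEOREM AT, step (2): the map `f : W → F`
-/

set_option autoImplicit false
set_option linter.unusedSectionVars false

namespace Cfsg.Agent.Omega.FOne.AT

open Cfsg.Agent.Lib.SL2Mat Cfsg.Agent.Omega.NatPair
open Cfsg.Agent.Omega.FOne.Tvw (Base addself z2 eq_of_add_eq_zero' ap_inv inv_ap)

variable {W : Type*} [AddCommGroup W] [Module (ZMod 2) W] {F : Type*} [Field F]
variable {H : Subgroup (W ≃ₗ[ZMod 2] W)} {y : W} {V : Submodule (ZMod 2) W}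
  {l : Matrix.SpecialLinearGroup (Fin 2) F →* (W ≃ₗ[ZMod 2] W)} {e : W →+ (Fin 2 → F)}

/-- the coordinate of an additive map into `{0, y}` -/
theorem exists_cf {A : Type*} [AddCommGroup A] {y : W} (y0 : y ≠ 0) (β : A →+ W) (hβ : ∀ a, β a ∈ Yy y) :
    ∃ ψ : A →+ ZMod 2, ∀ a, β a = ψ a • y := by
  classical
  refine ⟨AddMonoidHom.mk' (fun a => if β a = 0 then 0 else 1) fun a b => ?_, fun a => ?_⟩
  · rcases hβ a with h1 | h1 <;> rcases hβ b with h2 | h2 <;> rw [map_add, h1, h2]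
    · simp
    · simp [y0]
    · simp [y0]
    · rw [addself]; simp [y0]; decide
  · change β a = (if β a = 0 then (0 : ZMod 2) else 1) • y
    rcases hβ a with h1 | h1 <;> rw [h1]
    · simp
    · simp [y0]

namespace Cor

variable (h : Cor H y V l e) [Fintype F] [DecidableEq F] [CharP F 2] (hν : ∃ ν : F, ν ≠ 0 ∧ ν ≠ 1)
include hν

/-- the commutator of `r` with a torus element -/
theorem exists_qq {r : W ≃ₗ[ZMod 2] W} (hr : r ∈ H) (hrV : ∀ v ∈ V, r v + v ∈ Yy y)
    (hx : ∃ x, r (sg h.toSl x) ≠ sg h.toSl x) : ∃ η ψ, (η, ψ) ∈ h.QQ ∧ ψ ≠ 0 := by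
  obtain ⟨x, hx⟩ := hx
  let R : W →+ W := lin r + AddMonoidHom.id W
  have hR : ∀ w, R w = r w + w := fun w => rfl
  have hRV : ∀ v ∈ V, R v ∈ Yy y := hrV
  have hV := h.sg_mem
  obtain ⟨s, hs⟩ : ∃ s : Fˣ, R (l (tor s) (sg h.toSl x)) ≠ R (sg h.toSl x) := by
    by_contra hcon
    push Not at hcon
    have e1 : ∑ s : Fˣ, R (l (tor s) (sg h.toSl x)) = R (sg h.toSl x) := by
      simp only [hcon]
      rw [Finset.sum_const, Finset.card_univ]
      exact odd_nsmul odd_units _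
    have e2 : ∑ s : Fˣ, R (l (tor s) (sg h.toSl x)) = 0 := by
      rw [← map_sum]
      change R (nn l (sg h.toSl x)) = 0
      rw [h.toSl.nn_sg hν, map_zero]
    rw [e2] at e1
    apply hx
    exact eq_of_add_eq_zero' e1.symm
  set A : Matrix.SpecialLinearGroup (Fin 2) F := (tor s)⁻¹ with hA
  have hlA : (l A)⁻¹ = l (tor s) := by rw [hA, map_inv, inv_inv]
  have hAH := h.lH A
  set g : W ≃ₗ[ZMod 2] W := l A * r * (l A)⁻¹ * r⁻¹ with hg
  have hgH : g ∈ H := H.mul_mem (H.mul_mem (H.mul_mem hAH hr) (H.inv_mem hAH)) (H.inv_mem hr)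
  have hgw : ∀ w, g w = l A (r ((l A)⁻¹ (r⁻¹ w))) := fun w => rfl
  have hAV : ∀ v ∈ V, (l A)⁻¹ v ∈ V := fun v hv => by rw [hlA]; exact h.lV _ v hv
  -- the action on `V`
  have hrinv : ∀ v ∈ V, r⁻¹ v = v + R v := by
    intro v hv
    have h1 := hRV v hv
    apply r.injective
    rw [ap_inv, map_add, Base.fixY h.base hr h1, hR]
    linear_combination (norm := module) -addself (r v)
  have hgV : ∀ v ∈ V, g v = v + (R v + R (l (tor s) v)) := by
    intro v hv
    have h1 := hRV v hv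
    have h2 := hRV _ (h.lV (tor s) v hv)
    rw [hgw, hrinv v hv, map_add, hlA, Base.fixY h.base (h.lH _) h1, map_add, Base.fixY h.base hr h1]
    have h3 : r (l (tor s) v) = l (tor s) v + R (l (tor s) v) := by
      rw [hR]
      linear_combination (norm := module) -addself (l (tor s) v)
    rw [h3, map_add, map_add, Base.fixY h.base hAH h1, Base.fixY h.base hAH h2]
    have h4 : l A (l (tor s) v) = v := by rw [← l_mul, hA, inv_mul_cancel, l_one]
    rw [h4]; abel
  -- the additive map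
  let β : (Fin 2 → F) →+ W := (R + R.comp (lin (l (tor s)))).comp (sg h.toSl)
  have hβ : ∀ z, β z = R (sg h.toSl z) + R (l (tor s) (sg h.toSl z)) := fun z => rfl
  obtain ⟨ψ, hψ⟩ := exists_cf h.base.y0 β fun z => by
    rw [hβ]
    exact (Yy y).add_mem (hRV _ (hV z)) (hRV _ (h.lV _ _ (hV z)))
  refine ⟨lin g + AddMonoidHom.id W, ψ, h.mem_QQ.2 ⟨fun w => ?_, fun v hv => ?_, g, hgH, fun w => ?_, fun v hv => ?_⟩,
    fun h0 => ?_⟩
  · change g w + w ∈ V
    set u := r⁻¹ w with hu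
    have hw : r u = w := ap_inv _ _
    have h1 : (l A)⁻¹ u + u ∈ V := by rw [hlA]; exact h.comm_mem _ hν u
    set m := (l A)⁻¹ u + u with hm
    have h2 : (l A)⁻¹ u = u + m := by
      rw [hm]; linear_combination (norm := module) -addself u
    have h3 : r m ∈ V := by
      have h4 : r m = m + R m := by rw [hR]; linear_combination (norm := module) -addself m
      rw [h4]
      refine V.add_mem h1 ?_
      rcases hRV m h1 with h5 | h5 <;> rw [h5]
      · exact V.zero_mem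
      · exact h.yV
    have h4 : g w = l A w + l A (r m) := by rw [hgw, ← hu, h2, map_add, hw, map_add]
    have h5 : g w + w = (l A w + w) + l A (r m) := by rw [h4]; abel
    rw [h5]
    exact V.add_mem (h.comm_mem _ hν w) (h.lV _ _ h3)
  · change g v + v ∈ Yy y
    rw [hgV v hv]
    have h1 : v + (R v + R (l (tor s) v)) + v = R v + R (l (tor s) v) := by
      linear_combination (norm := module) addself v
    rw [h1]
    exact (Yy y).add_mem (hRV _ hv) (hRV _ (h.lV _ _ hv))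
  · change g w + w + (g w + w) ∈ Yy y
    rw [addself]; exact (Yy y).zero_mem
  · change g v = v + ψ (e v) • y
    rw [← hψ, hgV v hv, hβ]
    obtain ⟨c, hc, hv'⟩ := h.toSl.exists_dec v hν
    have h1 : R (l (tor s) v) = R (l (tor s) (sg h.toSl (e v))) + R c := by
      nth_rewrite 1 [hv']
      rw [map_add, h.tr _ c hc, map_add]
    have h2 : R v = R (sg h.toSl (e v)) + R c := by
      nth_rewrite 1 [hv']
      rw [map_add]
    rw [h1, h2]
    linear_combination (norm := module) addself (R c)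
  · have h1 := hψ x
    rw [h0] at h1
    change β x = (0 : ZMod 2) • y at h1
    rw [zero_smul, hβ] at h1
    exact hs (eq_of_add_eq_zero' h1).symm

/-- the value on the second axis may be assumed to be non-zero -/
theorem exists_pp {r : W ≃ₗ[ZMod 2] W} (hr : r ∈ H) (hrV : ∀ v ∈ V, r v + v ∈ Yy y)
    (hx : ∃ x, r (sg h.toSl x) ≠ sg h.toSl x) : ∃ γ ψ, h.PP γ ψ ∧ ∃ t : F, ψ ![0, t] ≠ 0 := by
  obtain ⟨η, ψ, h1, h2⟩ := h.exists_qq hν hr hrV hx
  have h3 : h.PP (e.comp η) ψ := h.pur hν h1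
  by_cases h4 : ∃ t : F, ψ ![0, t] ≠ 0
  · exact ⟨_, _, h3, h4⟩
  push Not at h4
  refine ⟨_, _, PP.ap h hν h3 wl, ?_⟩
  by_contra hcon
  push Not at hcon
  apply h2
  refine AddMonoidHom.ext fun x => ?_
  have e1 : x = ![x 0, 0] + ![0, x 1] := by apply ext2 <;> simp
  rw [e1, map_add, h4, add_zero]
  have e2 := hcon (-x 0)
  change ψ (NatPair.ap wl⁻¹ ![0, -x 0]) = 0 at e2
  have e3 : NatPair.ap (wl : Matrix.SpecialLinearGroup (Fin 2) F)⁻¹ ![0, -x 0] = ![x 0, 0] := by
    rw [ent_inv]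
    apply ext2
    · rw [ap_zero']; simp
    · rw [ap_one']; simp
  rw [e3] at e2
  exact e2

/-- **step (2)** -/
theorem exists_f {r : W ≃ₗ[ZMod 2] W} (hr : r ∈ H) (hrV : ∀ v ∈ V, r v + v ∈ Yy y)
    (hx : ∃ x, r (sg h.toSl x) ≠ sg h.toSl x) :
    ∃ (f : W →+ F) (χ : F →+ ZMod 2), χ ≠ 0 ∧ (∀ v ∈ V, f v = 0) ∧
      ∀ t : F, ∃ g ∈ H, (∀ w, g w + w + sg h.toSl ![0, t * f w] ∈ Yy y) ∧ ∀ v ∈ V, g v = v + χ (t * e v 0) • y := by
  obtain ⟨γ, ψ, h1, t0, ht0⟩ := h.exists_pp hν hr hrV hx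
  let f : W →+ F := (Pi.evalAddMonoidHom (fun _ : Fin 2 => F) 0).comp γ
  have hf : ∀ w, f w = γ w 0 := fun w => rfl
  let χ : F →+ ZMod 2 := ψ.comp (AddMonoidHom.mk' (fun t : F => ![0, t]) fun a b => by apply ext2 <;> simp)
  have hχ : ∀ t, χ t = ψ ![0, t] := fun t => rfl
  refine ⟨f, χ, fun h0 => ht0 ?_, fun v hv => ?_, fun t => ?_⟩
  · rw [← hχ, h0]; rfl
  · have h2 := (h.mem_QQ.1 h1).2.1 v hv
    have h3 : e (sg h.toSl (γ v)) = 0 := by
      rcases h2 with h2 | h2
      · change sg h.toSl (γ v) = 0 at h2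
        rw [h2, map_zero]
      · change sg h.toSl (γ v) = y at h2
        rw [h2, h.ey]
    rw [h.toSl.e_sg hν] at h3
    rw [hf, h3]; rfl
  · have h2 := PP.add h (PP.ap h hν h1 (lo t)) h1
    obtain ⟨-, -, g, hg, h3, h4⟩ := h.mem_QQ.1 h2
    refine ⟨g, hg, fun w => ?_, fun v hv => ?_⟩
    · have h5 := h3 w
      have h6 : ((apH (lo t)).comp γ + γ) w = ![0, t * f w] := by
        change NatPair.ap (lo t) (γ w) + γ w = _
        apply ext2
        · rw [Pi.add_apply, ap_zero']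
          simp
          exact CharTwo.add_self_eq_zero _
        · rw [Pi.add_apply, ap_one', hf]
          simp
          rw [add_assoc, CharTwo.add_self_eq_zero, add_zero]
      rw [← h6]
      exact h5
    · have h5 := h4 v hv
      rw [h5]
      congr 2
      change ψ (NatPair.ap (lo t)⁻¹ (e v)) + ψ (e v) = _
      rw [← map_add, hχ]
      congr 1
      rw [lo_inv]
      apply ext2
      · rw [Pi.add_apply, ap_zero']
        simp
        exact CharTwo.add_self_eq_zero _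
      · rw [Pi.add_apply, ap_one']
        simp
        rw [add_assoc, CharTwo.add_self_eq_zero, add_zero, CharTwo.neg_eq]

end Cor

end Cfsg.Agent.Omega.FOne.AT
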