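import Cfsg.Agent.Omega.FOne.TvwBlock
import Cfsg.Agent.Omega.NatPair.Semi

/-!
# THEOREM AT (bb OMEGA #19477, helper201): a module which is an extension of the natural `SL₂(F)`-module by a
trivial module

`l : SL₂(F) →* GL(W)`, `e : W → F²` equivariant and onto, `l` trivial on `ker e`, `F` of characteristic 2, `|F| > 2`:
the torus gives a section `sg : F² → W` of `e` (equivariant for the torus and the Weyl element), and the root group
acts by `(x₀, x₁) ↦ (x₀ + b x₁, x₁) + τ(b x₁²)`.
-/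

set_option autoImplicit false
set_option linter.unusedSectionVars false

namespace Cfsg.Agent.Omega.FOne.AT

open Cfsg.Agent.Lib.SL2Mat Cfsg.Agent.Omega.NatPair
open Cfsg.Agent.Omega.FOne.Tvw (addself z2 eq_of_add_eq_zero')

section field

variable {F : Type*} [Field F] [Fintype F] [DecidableEq F]

theorem sum_units_mul (h : ∃ ν : F, ν ≠ 0 ∧ ν ≠ 1) (x : F) : ∑ s : Fˣ, (s : F) * x = 0 := by
  obtain ⟨ν, h0, h1⟩ := h
  have e : ∑ s : Fˣ, (s : F) * x = ν * ∑ s : Fˣ, (s : F) * x := by
    rw [Finset.mul_sum]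
    refine (Fintype.sum_equiv (Equiv.mulLeft (Units.mk0 ν h0)) _ _ fun s => ?_).symm
    rw [Equiv.coe_mulLeft, Units.val_mul, Units.val_mk0, mul_assoc]
  have e2 : (ν - 1) * ∑ s : Fˣ, (s : F) * x = 0 := by linear_combination -e
  rcases mul_eq_zero.1 e2 with h2 | h2
  · exact absurd (sub_eq_zero.1 h2) h1
  · exact h2

theorem sum_units_inv_mul (h : ∃ ν : F, ν ≠ 0 ∧ ν ≠ 1) (x : F) : ∑ s : Fˣ, (s : F)⁻¹ * x = 0 := by
  rw [← sum_units_mul h x]
  refine Fintype.sum_equiv (Equiv.inv Fˣ) _ _ fun s => ?_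
  rw [Equiv.inv_apply, Units.val_inv_eq_inv_val]

theorem odd_units [CharP F 2] : Odd (Fintype.card Fˣ) := by
  have h1 : Fintype.card F = Fintype.card Fˣ + 1 := Fintype.card_eq_card_units_add_one F
  have h2 : ((Fintype.card F : ℕ) : F) = 0 := Nat.cast_card_eq_zero F
  have h3 : 2 ∣ Fintype.card F := (CharP.cast_eq_zero_iff F 2 _).1 h2
  rw [Nat.odd_iff]
  omega

end field

section two

variable {A : Type*} [AddCommGroup A] [Module (ZMod 2) A]

theorem odd_nsmul {n : ℕ} (hn : Odd n) (w : A) : n • w = w := by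
  obtain ⟨k, rfl⟩ := hn
  rw [add_smul, mul_smul, one_smul, two_smul, addself, zero_add]

end two

variable {W : Type*} [AddCommGroup W] [Module (ZMod 2) W] {F : Type*} [Field F]

/-- `l` is an action of `SL₂(F)` on `W`, `e : W → F²` is equivariant and onto, `l` is trivial on `ker e`. -/
structure Sl (l : Matrix.SpecialLinearGroup (Fin 2) F →* (W ≃ₗ[ZMod 2] W)) (e : W →+ (Fin 2 → F)) : Prop where
  act : ∀ A w, e (l A w) = ap A (e w)
  tr : ∀ A w, e w = 0 → l A w = w
  sur : ∀ x, ∃ w, e w = x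

variable {l : Matrix.SpecialLinearGroup (Fin 2) F →* (W ≃ₗ[ZMod 2] W)} {e : W →+ (Fin 2 → F)}

/-- the torus element -/
abbrev tor (s : Fˣ) : Matrix.SpecialLinearGroup (Fin 2) F := dg (s : F) s.ne_zero

theorem tor_mul (s t : Fˣ) : tor s * tor t = tor (s * t) := by
  refine ext_ent ?_ ?_ ?_ ?_ <;> simp [ent_mul, mul_comm]

theorem ap_tor (s : Fˣ) (x : Fin 2 → F) : ap (tor s) x = ![(s : F) * x 0, (s : F)⁻¹ * x 1] := by
  apply ext2
  · rw [ap_zero']; simp
  · rw [ap_one']; simp

theorem l_mul (A B : Matrix.SpecialLinearGroup (Fin 2) F) (w : W) : l (A * B) w = l A (l B w) := by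
  rw [map_mul]; rfl

theorem l_one (w : W) : l 1 w = w := by rw [map_one]; rfl

section torus

variable [Fintype F] [DecidableEq F]

/-- the sum over the torus -/
noncomputable def nn (l : Matrix.SpecialLinearGroup (Fin 2) F →* (W ≃ₗ[ZMod 2] W)) (w : W) : W :=
  ∑ s : Fˣ, l (tor s) w

theorem nn_add (v w : W) : nn l (v + w) = nn l v + nn l w := by
  unfold nn
  rw [← Finset.sum_add_distrib]
  exact Finset.sum_congr rfl fun s _ => map_add _ _ _

/-- an element normalising the torus commutes with the sum -/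
theorem nn_comm {A : Matrix.SpecialLinearGroup (Fin 2) F} {f : Fˣ ≃ Fˣ} (hf : ∀ s, A * tor s = tor (f s) * A) (w : W) :
    l A (nn l w) = nn l (l A w) := by
  unfold nn
  rw [map_sum]
  refine Fintype.sum_equiv f _ _ fun s => ?_
  rw [← l_mul, hf, l_mul]

theorem tor_comm (s : Fˣ) (w : W) : l (tor s) (nn l w) = nn l (l (tor s) w) :=
  nn_comm (f := Equiv.refl _) (fun t => by rw [tor_mul, tor_mul, mul_comm]; rfl) w

/-- the Weyl element -/
abbrev wl : Matrix.SpecialLinearGroup (Fin 2) F := wm 1 one_ne_zero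

theorem wl_comm (w : W) : l wl (nn l w) = nn l (l wl w) := by
  refine nn_comm (f := Equiv.inv Fˣ) (fun t => ?_) w
  refine ext_ent ?_ ?_ ?_ ?_ <;> simp [ent_mul]

end torus

namespace Sl

variable (h : Sl l e)
include h

variable [Fintype F] [DecidableEq F] (hν : ∃ ν : F, ν ≠ 0 ∧ ν ≠ 1)

include hν in
theorem e_nn (w : W) : e (nn l w) = 0 := by
  unfold nn
  rw [map_sum]
  have h1 : ∀ s : Fˣ, e (l (tor s) w) = ![(s : F) * e w 0, (s : F)⁻¹ * e w 1] := fun s => by
    rw [h.act, ap_tor]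
  simp only [h1]
  apply ext2
  · rw [Finset.sum_apply]
    exact sum_units_mul hν _
  · rw [Finset.sum_apply]
    exact sum_units_inv_mul hν _

variable [CharP F 2]

theorem nn_of {w : W} (hw : e w = 0) : nn l w = w := by
  unfold nn
  have h1 : ∀ s : Fˣ, l (tor s) w = w := fun s => h.tr _ _ hw
  simp only [h1]
  rw [Finset.sum_const, Finset.card_univ]
  exact odd_nsmul odd_units w

/-- `w + N w` depends only on `e w` -/
theorem wd {v w : W} (he : e v = e w) : v + nn l v = w + nn l w := by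
  have h1 : e (v - w) = 0 := by rw [map_sub, he, sub_self]
  have h2 := h.nn_of h1
  have h3 : nn l v = nn l (v - w) + nn l w := by rw [← nn_add, sub_add_cancel]
  rw [h3, h2]
  linear_combination (norm := module) addself v - addself w

end Sl

/-- **the section** `F² → W` given by the torus -/
noncomputable def sg (h : Sl l e) [Fintype F] [DecidableEq F] [CharP F 2] : (Fin 2 → F) →+ W :=
  AddMonoidHom.mk' (fun x => (h.sur x).choose + nn l (h.sur x).choose) fun x y => by
    have h1 := (h.sur x).choose_spec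
    have h2 := (h.sur y).choose_spec
    have h3 := (h.sur (x + y)).choose_spec
    have h4 : (h.sur (x + y)).choose + nn l (h.sur (x + y)).choose =
        ((h.sur x).choose + (h.sur y).choose) + nn l ((h.sur x).choose + (h.sur y).choose) :=
      h.wd (by rw [h3, map_add, h1, h2])
    change (h.sur (x + y)).choose + nn l (h.sur (x + y)).choose = _
    rw [h4, nn_add]
    abel

namespace Sl

variable [Fintype F] [DecidableEq F] [CharP F 2] (h : Sl l e)

theorem sg_e (w : W) : sg h (e w) = w + nn l w :=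
  h.wd (h.sur (e w)).choose_spec

theorem dec (w : W) : w = sg h (e w) + nn l w := by
  rw [sg_e]
  linear_combination (norm := module) -addself (nn l w)

include h in
theorem exists_dec (w : W) (hν : ∃ ν : F, ν ≠ 0 ∧ ν ≠ 1) : ∃ c, e c = 0 ∧ w = sg h (e w) + c :=
  ⟨nn l w, h.e_nn hν w, h.dec w⟩

variable (hν : ∃ ν : F, ν ≠ 0 ∧ ν ≠ 1)
include hν

theorem e_sg (x : Fin 2 → F) : e (sg h x) = x := by
  obtain ⟨w, rfl⟩ := h.sur x
  rw [sg_e, map_add, h.e_nn hν, add_zero]

theorem nn_sg (x : Fin 2 → F) : nn l (sg h x) = 0 := by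
  obtain ⟨w, rfl⟩ := h.sur x
  rw [sg_e, nn_add, h.nn_of (h.e_nn hν w), addself]

omit hν in
theorem tor_sg (s : Fˣ) (x : Fin 2 → F) : l (tor s) (sg h x) = sg h (ap (tor s) x) := by
  obtain ⟨w, rfl⟩ := h.sur x
  rw [sg_e, map_add, tor_comm, ← h.act, sg_e]

omit hν in
theorem wl_sg (x : Fin 2 → F) : l wl (sg h x) = sg h (ap wl x) := by
  obtain ⟨w, rfl⟩ := h.sur x
  rw [sg_e, map_add, wl_comm, ← h.act, sg_e]

/-- the cocycle -/
theorem e_co (A : Matrix.SpecialLinearGroup (Fin 2) F) (x : Fin 2 → F) :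
    e (l A (sg h x) + sg h (ap A x)) = 0 := by
  rw [map_add, h.act, h.e_sg hν, h.e_sg hν]
  funext i
  rw [Pi.add_apply]
  exact CharTwo.add_self_eq_zero _

theorem co_mul (A B : Matrix.SpecialLinearGroup (Fin 2) F) (x : Fin 2 → F) :
    l (A * B) (sg h x) + sg h (ap (A * B) x) =
      (l A (sg h (ap B x)) + sg h (ap A (ap B x))) + (l B (sg h x) + sg h (ap B x)) := by
  have h1 := h.tr A _ (h.e_co hν B x)
  rw [map_add] at h1
  rw [l_mul, ap_mul]
  linear_combination (norm := module) h1 - addself (l A (sg h (ap B x)))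

omit hν in
theorem co_one (x : Fin 2 → F) : l 1 (sg h x) + sg h (ap 1 x) = 0 := by
  rw [l_one, ap_one, addself]

omit hν in
theorem co_add (A : Matrix.SpecialLinearGroup (Fin 2) F) (x z : Fin 2 → F) :
    l A (sg h (x + z)) + sg h (ap A (x + z)) =
      (l A (sg h x) + sg h (ap A x)) + (l A (sg h z) + sg h (ap A z)) := by
  rw [ap_add, map_add, map_add, map_add]
  abel

theorem co_up_zero (b x0 : F) : l (up b) (sg h ![x0, 0]) + sg h (ap (up b) ![x0, 0]) = 0 := by
  by_cases hb : b = 0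
  · rw [hb, up_zero]
    exact h.co_one _
  have h1 := h.co_mul hν (up b) (up b) ![0, x0 / b]
  rw [up_mul, CharTwo.add_self_eq_zero, up_zero, co_one, ← co_add] at h1
  have h2 : ap (up b) ![0, x0 / b] + ![0, x0 / b] = ![x0, 0] := by
    apply ext2
    · rw [Pi.add_apply, ap_zero']
      simp [mul_div_cancel₀, hb]
    · rw [Pi.add_apply, ap_one']
      simp
      exact CharTwo.add_self_eq_zero _
  rw [h2] at h1
  exact h1.symm

/-- **the map `τ`** -/
noncomputable def ta (h : Sl l e) (hν : ∃ ν : F, ν ≠ 0 ∧ ν ≠ 1) : F →+ W :=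
  AddMonoidHom.mk' (fun s => l (up s) (sg h ![0, 1]) + sg h (ap (up s) ![0, 1])) fun s s' => by
    have h1 := h.co_mul hν (up s) (up s') ![0, 1]
    have h2 : ap (up s') ![0, 1] = ![s', 0] + ![0, 1] := by
      apply ext2
      · rw [Pi.add_apply, ap_zero']; simp
      · rw [Pi.add_apply, ap_one']; simp
    rw [up_mul, h2, co_add, co_up_zero _ hν, zero_add] at h1
    change l (up (s + s')) (sg h ![0, 1]) + sg h (ap (up (s + s')) ![0, 1]) = _
    rw [h1, h2]

theorem e_ta (s : F) : e (ta h hν s) = 0 := h.e_co hν _ _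

omit hν in
theorem ap_tor_up (t : Fˣ) (b : F) (x : Fin 2 → F) :
    ap (up ((t : F) ^ 2 * b)) (ap (tor t) x) = ap (tor t) (ap (up b) x) := by
  rw [← ap_mul, ← ap_mul, ← dg_up]

theorem co_tor (t : Fˣ) (b : F) (x : Fin 2 → F) :
    l (up ((t : F) ^ 2 * b)) (sg h (ap (tor t) x)) + sg h (ap (up ((t : F) ^ 2 * b)) (ap (tor t) x)) =
      l (up b) (sg h x) + sg h (ap (up b) x) := by
  have h1 := h.tr (tor t) _ (h.e_co hν (up b) x)
  rw [map_add, tor_sg, ← ap_tor_up, ← l_mul, dg_up, l_mul, tor_sg] at h1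
  exact h1

/-- **the action of the root group** -/
theorem up_sg (b : F) (x : Fin 2 → F) :
    l (up b) (sg h x) = sg h x + sg h ![b * x 1, 0] + ta h hν (b * x 1 ^ 2) := by
  have h1 : x = ![x 0, 0] + ![0, x 1] := by
    apply ext2 <;> simp
  have h2 : ap (up b) x = x + ![b * x 1, 0] := by
    apply ext2
    · rw [Pi.add_apply, ap_zero']; simp
    · rw [Pi.add_apply, ap_one']; simp
  have h3 : l (up b) (sg h x) + sg h (ap (up b) x) = ta h hν (b * x 1 ^ 2) := by
    rw [h1, co_add, co_up_zero _ hν, zero_add]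
    by_cases h4 : x 1 = 0
    · rw [h4]
      have h5 : (![0, 0] : Fin 2 → F) = 0 := by apply ext2 <;> simp
      have h6 : ap (up b) (0 : Fin 2 → F) = 0 := by
        apply ext2
        · rw [ap_zero']; simp
        · rw [ap_one']; simp
      simp [h5, h6]
    · have h5 := h.co_tor hν (Units.mk0 (x 1) h4) b ![0, x 1]
      have h6 : ap (tor (Units.mk0 (x 1) h4)) ![0, x 1] = ![0, 1] := by
        rw [ap_tor]
        apply ext2
        · simp
        · simp [h4]
      rw [h6, Units.val_mk0] at h5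
      rw [← h5]
      change ta h hν (x 1 ^ 2 * b) = _
      congr 1
      simp [mul_comm]
  rw [h2, map_add] at h3
  linear_combination (norm := module) h3 - addself (sg h x) - addself (sg h ![b * x 1, 0])

/-- the root group, on any vector -/
theorem up_ap (b : F) (w : W) :
    l (up b) w = w + sg h ![b * e w 1, 0] + ta h hν (b * e w 1 ^ 2) := by
  obtain ⟨c, hc, hw⟩ := h.exists_dec w hν
  have h1 : l (up b) w = l (up b) (sg h (e w)) + c := by
    nth_rewrite 1 [hw]
    rw [map_add, h.tr _ c hc]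
  rw [h1, h.up_sg hν]
  nth_rewrite 4 [hw]
  abel

end Sl

end Cfsg.Agent.Omega.FOne.AT
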