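import Cfsg.Agent.Omega.FOne.AT.End

/-!
# THEOREM AT, step (1): the kernel of `P` on `V` moves the lifts of the line
-/

set_option autoImplicit false
set_option linter.unusedSectionVars false

namespace Cfsg.Agent.Omega.FOne.AT

open Cfsg.Agent.Lib.SL2Mat Cfsg.Agent.Omega.NatPair
open Cfsg.Agent.Omega.FOne.Tvw (Base addself z2 eq_of_add_eq_zero' ap_inv inv_ap)

variable {W : Type*} [AddCommGroup W] [Module (ZMod 2) W] {F : Type*} [Field F]
variable {H : Subgroup (W ≃ₗ[ZMod 2] W)} {y : W} {V : Submodule (ZMod 2) W}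
  {l : Matrix.SpecialLinearGroup (Fin 2) F →* (W ≃ₗ[ZMod 2] W)} {e : W →+ (Fin 2 → F)}

/-- the hypotheses of THEOREM AT -/
structure Hat (H : Subgroup (W ≃ₗ[ZMod 2] W)) (y : W) (V : Submodule (ZMod 2) W)
    (l : Matrix.SpecialLinearGroup (Fin 2) F →* (W ≃ₗ[ZMod 2] W)) (e : W →+ (Fin 2 → F))
    (T O : Subgroup (W ≃ₗ[ZMod 2] W)) (θ : W) : Prop extends Cor H y V l e where
  th : θ ∈ V
  O2 : IsPGroup 2 O
  Oth : ∀ o ∈ O, o θ + θ ∈ Yy y
  nO : ∀ g ∈ H, g θ + θ ∈ Yy y → ∀ o ∈ O, g * o * g⁻¹ ∈ O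
  BO : ∀ b, l (up b) ∈ O
  TH : T ≤ H
  Tth : ∀ t ∈ T, t θ + θ ∈ Yy y
  TV : ∀ t ∈ T, ∀ v ∈ V, t v ∈ V
  fix : ∀ w, (∀ t ∈ T, t w = w) → w = 0 ∨ w = y
  typ : ∀ t ∈ T, (∀ A, ∀ v ∈ V, e (t (l A v + v)) = 0) ∨
    ((∀ v ∈ V, e (t v) = 0 ↔ e v = 0) ∧ (∀ v ∈ V, e (t v) 1 = 0 ↔ e v 1 = 0) ∧
      ∀ A, ∃ B, ∀ v ∈ V, (t * l A * t⁻¹) v + l B v ∈ Yy y)

namespace Hat

variable {T O : Subgroup (W ≃ₗ[ZMod 2] W)} {θ : W} (h : Hat H y V l e T O θ)
include h

theorem e_of_Yy {a : W} (ha : a ∈ Yy y) : e a = 0 := by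
  rcases ha with rfl | rfl
  · exact map_zero e
  · exact h.ey

variable [CharP F 2]

/-- `θ` lies on the line -/
theorem th1 : e θ 1 = 0 := by
  have h1 := h.e_of_Yy (h.Oth _ (h.BO 1))
  rw [map_add, h.act] at h1
  have h2 := congrFun h1 0
  rw [Pi.add_apply, ap_zero', up_00, up_01, one_mul, one_mul, Pi.zero_apply] at h2
  have h3 := CharTwo.add_self_eq_zero (e θ 0)
  linear_combination h2 - h3

/-- `θ` is moved by `SL₂(F)` -/
theorem th0 [Finite W] (hν : ∃ ν : F, ν ≠ 0 ∧ ν ≠ 1) : e θ 0 ≠ 0 := by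
  intro h0
  have h1 : e θ = 0 := ext2 h0 (h.th1)
  have hfix : ∀ A, l A θ = θ := fun A => h.tr A θ h1
  have hn : ∀ A, ∀ o ∈ O, l A * o * (l A)⁻¹ ∈ O := fun A o ho => h.nO _ (h.lH A) (by
    rw [hfix, addself]; exact (Yy y).zero_mem) o ho
  have hlo : ∀ b : F, l (lo b) ∈ O := by
    intro b
    have h2 := hn (wm 1 one_ne_zero) _ (h.BO (-b))
    rw [← map_inv, ← map_mul, ← map_mul] at h2
    have h3 : wm (1 : F) one_ne_zero * up (-b) * (wm 1 one_ne_zero)⁻¹ = lo b := by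
      rw [wm_up, mul_inv_cancel_right]
      congr 1
      simp
    rwa [h3] at h2
  have hall : ∀ A, l A ∈ O := by
    intro A
    obtain ⟨a, b, c, d, rfl⟩ := exists_up_lo A
    rw [map_mul, map_mul, map_mul]
    exact O.mul_mem (O.mul_mem (O.mul_mem (h.BO _) (hlo _)) (h.BO _)) (hlo _)
  -- the image contains an element of order not a power of two
  obtain ⟨ν, hν0, hν1⟩ := hν
  obtain ⟨k, hk⟩ := h.O2 ⟨_, hall (dg ν hν0)⟩
  have h2 : (l (dg ν hν0)) ^ 2 ^ k = 1 := congrArg Subtype.val hk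
  rw [← map_pow] at h2
  have hpow : ∀ n : ℕ, ent ((dg ν hν0) ^ n) 0 0 = ν ^ n ∧ ent ((dg ν hν0) ^ n) 0 1 = 0 := by
    intro n
    induction n with
    | zero => exact ⟨by rw [pow_zero, pow_zero]; rfl, by rw [pow_zero]; rfl⟩
    | succ n ih =>
      rw [pow_succ, ent_mul, ent_mul, ih.1, ih.2]
      constructor
      · simp [pow_succ]
      · simp
  obtain ⟨w, hw⟩ := h.sur ![1, 0]
  have h3 := h.act ((dg ν hν0) ^ 2 ^ k) w
  rw [h2, hw] at h3
  change e w = _ at h3
  rw [hw] at h3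
  have h4 := congrFun h3 0
  rw [ap_zero', (hpow _).1, (hpow _).2] at h4
  simp only [Matrix.cons_val_zero, mul_one, zero_mul, add_zero] at h4
  -- `ν ^ (2 ^ k) = 1` gives `ν = 1`
  have h5 : ∀ (k : ℕ) (a : F), a ^ 2 ^ k = 1 → a = 1 := by
    intro k
    induction k with
    | zero => intro a ha; simpa using ha
    | succ k ih =>
      intro a ha
      have h6 : (a ^ 2 ^ k + 1) * (a ^ 2 ^ k + 1) = 0 := by
        have h7 : a ^ 2 ^ (k + 1) = a ^ 2 ^ k * a ^ 2 ^ k := by rw [pow_succ, pow_mul, sq]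
        have h8 := CharTwo.add_self_eq_zero (a ^ 2 ^ k)
        have h9 := CharTwo.add_self_eq_zero (1 : F)
        rw [h7] at ha
        linear_combination ha + h8 + h9
      exact ih a (CharTwo.add_eq_zero.1 (mul_self_eq_zero.1 h6))
  exact hν1 (h5 k ν h4.symm)

section fin

variable [Fintype F] [DecidableEq F] (hν : ∃ ν : F, ν ≠ 0 ∧ ν ≠ 1)
include hν

/-- elements of the first type: `T` moves `[V, L]` into `ker e` -/
theorem typ_sg {t : W ≃ₗ[ZMod 2] W} (ht : ∀ A, ∀ v ∈ V, e (t (l A v + v)) = 0) (x : Fin 2 → F) :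
    e (t (sg h.toSl x)) = 0 := by
  obtain ⟨v, hv, rfl⟩ := h.surV x
  have h1 : sg h.toSl (e v) = ∑ s : Fˣ, (l (tor s) v + v) := by
    rw [Sl.sg_e, Finset.sum_add_distrib, Finset.sum_const, Finset.card_univ, odd_nsmul odd_units]
    exact add_comm _ _
  rw [h1, map_sum, map_sum]
  exact Finset.sum_eq_zero fun s _ => ht _ _ hv

/-- elements of the second type fix the vector `z` of the section over `e θ`, if the kernel does not move the line -/
theorem fix_z (hR : ∀ r ∈ H, (∀ v ∈ V, r v + v ∈ Yy y) → ∀ x : F, r (sg h.toSl ![x, 0]) = sg h.toSl ![x, 0])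
    {t : W ≃ₗ[ZMod 2] W} (htT : t ∈ T) (h1 : ∀ v ∈ V, e (t v) = 0 ↔ e v = 0)
    (h2 : ∀ v ∈ V, e (t v) 1 = 0 ↔ e v 1 = 0)
    (h3 : ∀ A, ∃ B, ∀ v ∈ V, (t * l A * t⁻¹) v + l B v ∈ Yy y) :
    t (sg h.toSl (e θ)) = sg h.toSl (e θ) := by
  have htH := h.TH htT
  set z := sg h.toSl (e θ) with hz
  have hzV : z ∈ V := h.sg_mem _
  have hez : e z = e θ := h.toSl.e_sg hν _
  -- `e (t z) = e z`
  obtain ⟨c, hc, hθ⟩ := h.toSl.exists_dec θ hν
  have hcV : c ∈ V := by
    have : c = θ + z := by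
      rw [hz]; nth_rewrite 1 [hθ]
      linear_combination (norm := module) -addself (sg h.toSl (e θ))
    rw [this]
    exact V.add_mem h.th hzV
  have h4 : e (t z) = e z := by
    have h5 := h.e_of_Yy (h.Tth t htT)
    have h6 : t θ = t z + t c := by
      nth_rewrite 1 [hθ]
      rw [map_add]
    rw [h6, map_add, map_add, (h1 c hcV).2 hc, add_zero] at h5
    rw [hez]
    have h7 : e θ + e θ = 0 := by
      funext i; exact CharTwo.add_self_eq_zero _
    linear_combination h5 - h7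
  -- the error
  set c' := t z + z with hc'
  have hc'V : c' ∈ V := V.add_mem (h.TV t htT z hzV) hzV
  have hec' : e c' = 0 := by
    rw [hc', map_add, h4]
    funext i; exact CharTwo.add_self_eq_zero _
  have htz : t z = z + c' := by
    rw [hc']; linear_combination (norm := module) -addself z
  -- the conjugates of the torus
  let k : Fˣ →* (W ≃ₗ[ZMod 2] W) := (MulAut.conj t).toMonoidHom.comp (l.comp
    { toFun := tor
      map_one' := by refine ext_ent ?_ ?_ ?_ ?_ <;> simp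
      map_mul' := fun a b => (tor_mul a b).symm })
  have hk : ∀ s, k s = t * l (tor s) * t⁻¹ := fun s => rfl
  have hkH : ∀ s, k s ∈ H := fun s => by
    rw [hk]; exact H.mul_mem (H.mul_mem htH (h.lH _)) (H.inv_mem htH)
  have htinv : ∀ v ∈ V, t⁻¹ v ∈ V := fun v hv => h.TV _ (T.inv_mem htT) v hv
  have hkey : ∀ s, k s z = sg h.toSl ![ent (h3 (tor s)).choose 0 0 * e θ 0, 0] ∧ k s c' + c' ∈ Yy y := by
    intro s
    have hB := (h3 (tor s)).choose_spec
    set B := (h3 (tor s)).choose with hBdef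
    -- `B` is upper triangular
    have hB1 : ∀ v ∈ V, e v 1 = 0 → ap B (e v) 1 = 0 := by
      intro v hv hv1
      have e1 := h.e_of_Yy (hB v hv)
      rw [map_add, h.act] at e1
      have e2 : e ((t * l (tor s) * t⁻¹) v) 1 = 0 := by
        change e (t (l (tor s) (t⁻¹ v))) 1 = 0
        rw [h2 _ (h.lV _ _ (htinv v hv)), h.act, ap_one', dg_10, zero_mul, zero_add]
        have e3 := (h2 _ (htinv v hv)).1 (by rw [ap_inv]; exact hv1)
        rw [e3, mul_zero]
      have e3 := congrFun e1 1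
      rw [Pi.add_apply, e2, zero_add] at e3
      exact e3
    have hB10 : ent B 1 0 = 0 := by
      obtain ⟨v, hv, hev⟩ := h.surV ![1, 0]
      have e1 := hB1 v hv (by rw [hev]; rfl)
      rw [hev, ap_one'] at e1
      simpa using e1
    have hB11 : ent B 0 0 ≠ 0 := by
      intro h0
      have := det_eq B
      rw [h0, hB10] at this
      simp at this
    have hlB : ∀ x : F, l B (sg h.toSl ![x, 0]) = sg h.toSl ![ent B 0 0 * x, 0] := by
      intro x
      have e1 : B = tor (Units.mk0 (ent B 0 0) hB11) * up (ent B 0 1 / ent B 0 0) := by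
        have e2 := det_eq B
        rw [hB10, mul_zero, sub_zero] at e2
        refine ext_ent ?_ ?_ ?_ ?_
        · rw [ent_mul]; simp
        · rw [ent_mul]; simp; field_simp
        · rw [ent_mul]; simp [hB10]
        · rw [ent_mul]; simp
          exact (eq_inv_of_mul_eq_one_right e2)
      have e3 : l B (sg h.toSl ![x, 0]) =
          l (tor (Units.mk0 (ent B 0 0) hB11) * up (ent B 0 1 / ent B 0 0)) (sg h.toSl ![x, 0]) := by rw [← e1]
      rw [e3, l_mul, h.toSl.up_sg hν]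
      simp only [Matrix.cons_val_one, Matrix.cons_val_fin_one, mul_zero, ne_eq, OfNat.ofNat_ne_zero,
        not_false_eq_true, zero_pow, map_zero, add_zero, vec_zero]
      rw [Sl.tor_sg, ap_tor]
      simp
    -- the kernel element
    have hr : k s * (l B)⁻¹ ∈ H := H.mul_mem (hkH s) (H.inv_mem (h.lH B))
    have hrV : ∀ v ∈ V, (k s * (l B)⁻¹) v + v ∈ Yy y := by
      intro v hv
      have e1 : (l B)⁻¹ v ∈ V := by rw [← map_inv]; exact h.lV _ _ hv
      have e2 := hB _ e1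
      rw [ap_inv] at e2
      exact e2
    refine ⟨?_, ?_⟩
    · have e1 : z = sg h.toSl ![e θ 0, 0] := by
        rw [hz]; congr 1; exact ext2 rfl h.th1
      have e2 := hR _ hr hrV (ent B 0 0 * e θ 0)
      rw [← hlB] at e2
      change k s ((l B)⁻¹ (l B (sg h.toSl ![e θ 0, 0]))) = _ at e2
      rw [inv_ap, hlB, ← e1] at e2
      exact e2
    · have e1 := hB c' hc'V
      rw [h.tr B c' hec'] at e1
      exact e1
  -- the character on `c'`
  have hc2 : ∀ s, k s c' = c' := by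
    intro s
    rcases (hkey s).2 with e1 | e1
    · exact eq_of_add_eq_zero' e1
    exfalso
    have e2 : k s c' = c' + y := by linear_combination (norm := module) e1 - addself c'
    have e3 : ∀ n : ℕ, (k s ^ n) c' = c' + n • y := by
      intro n
      induction n with
      | zero => rw [pow_zero, zero_smul, add_zero]; rfl
      | succ n ih =>
        rw [pow_succ']
        change k s ((k s ^ n) c') = _
        rw [ih, map_add, map_nsmul, h.base.fix _ (hkH s), e2, add_smul, one_smul]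
        abel
    have e4 := e3 (Fintype.card Fˣ)
    rw [← map_pow, pow_card_eq_one, map_one, odd_nsmul odd_units] at e4
    change c' = c' + y at e4
    exact h.base.y0 (left_eq_add.1 e4)
  -- the sum over the torus
  have h5 : ∑ s : Fˣ, k s (t z) = 0 := by
    have e1 : ∀ s, k s (t z) = t (l (tor s) z) := by
      intro s
      rw [hk]
      change t (l (tor s) (t⁻¹ (t z))) = _
      rw [inv_ap]
    simp only [e1]
    rw [← map_sum]
    change t (nn l z) = 0
    rw [hz, h.toSl.nn_sg hν, map_zero]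
  have h6 : ∑ s : Fˣ, k s (t z) = sg h.toSl ![(∑ s : Fˣ, ent (h3 (tor s)).choose 0 0) * e θ 0, 0] + c' := by
    have e1 : ∀ s, k s (t z) = sg h.toSl ![ent (h3 (tor s)).choose 0 0 * e θ 0, 0] + c' := by
      intro s
      rw [htz, map_add, (hkey s).1, hc2]
    simp only [e1]
    rw [Finset.sum_add_distrib, Finset.sum_const, Finset.card_univ, odd_nsmul odd_units, ← map_sum]
    congr 2
    rw [Finset.sum_mul]
    apply ext2
    · rw [Finset.sum_apply]; simp
    · rw [Finset.sum_apply]; simp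
  rw [h5] at h6
  have h7 := congrArg e h6
  rw [map_zero, map_add, hec', add_zero, h.toSl.e_sg hν] at h7
  rw [← h7, map_zero, zero_add] at h6
  rw [htz, ← h6, add_zero]

/-- **step (1)** -/
theorem exists_r [Finite W] : ∃ r ∈ H, (∀ v ∈ V, r v + v ∈ Yy y) ∧ ∃ x, r (sg h.toSl x) ≠ sg h.toSl x := by
  classical
  by_contra hcon
  have hR : ∀ r ∈ H, (∀ v ∈ V, r v + v ∈ Yy y) → ∀ x : F, r (sg h.toSl ![x, 0]) = sg h.toSl ![x, 0] := by
    intro r hr hrV x
    by_contra hne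
    exact hcon ⟨r, hr, hrV, _, hne⟩
  have : Fintype W := Fintype.ofFinite W
  set z := sg h.toSl (e θ) with hz
  have hez : e z = e θ := h.toSl.e_sg hν _
  let Ω : Finset W := Finset.univ.filter fun w => ∃ t ∈ T, t z = w
  have hΩ : ∀ w, w ∈ Ω ↔ ∃ t ∈ T, t z = w := fun w => by simp [Ω]
  have h1 : ∀ t ∈ T, t (∑ w ∈ Ω, w) = ∑ w ∈ Ω, w := by
    intro t ht
    rw [map_sum]
    refine Finset.sum_nbij' (fun w => t w) (fun w => t⁻¹ w) ?_ ?_ ?_ ?_ ?_
    · intro w hw
      obtain ⟨s, hs, rfl⟩ := (hΩ w).1 hw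
      exact (hΩ _).2 ⟨t * s, T.mul_mem ht hs, rfl⟩
    · intro w hw
      obtain ⟨s, hs, rfl⟩ := (hΩ w).1 hw
      exact (hΩ _).2 ⟨t⁻¹ * s, T.mul_mem (T.inv_mem ht) hs, rfl⟩
    · intro w _; exact inv_ap _ _
    · intro w _; exact ap_inv _ _
    · intro w _; rfl
  have h2 := h.fix _ h1
  have h3 : e (∑ w ∈ Ω, w) = 0 := h.e_of_Yy h2
  have hzΩ : z ∈ Ω := (hΩ z).2 ⟨1, T.one_mem, rfl⟩
  rw [map_sum, Finset.sum_eq_single_of_mem z hzΩ] at h3
  · rw [hez] at h3
    exact h.th0 hν (by rw [h3]; rfl)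
  · intro w hw hwz
    obtain ⟨t, ht, rfl⟩ := (hΩ w).1 hw
    rcases h.typ t ht with h4 | ⟨h4, h5, h6⟩
    · exact h.typ_sg hν h4 _
    · exact absurd (h.fix_z hν hR ht h4 h5 h6) hwz

end fin

/-- **THEOREM AT** (bb OMEGA #19477, helper201) -/
theorem false_of [Finite W] [Finite F] (hν : ∃ ν : F, ν ≠ 0 ∧ ν ≠ 1)
    (hNO : ∀ A : Subgroup (W ≃ₗ[ZMod 2] W), A ≤ O → (∀ a ∈ A, a * a = 1) → (∀ a ∈ A, ∀ b ∈ A, a * b = b * a) →
      Nat.card A * Nat.card {w : W // ∀ a ∈ A, a w = w ∨ a w = w + y} ≤ Nat.card W) : False := by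
  classical
  have : Fintype F := Fintype.ofFinite F
  obtain ⟨r, hr, hrV, hx⟩ := h.exists_r hν
  exact Cor.core_false h.toCor hν hr hrV hx h.th h.BO h.nO hNO

end Hat

end Cfsg.Agent.Omega.FOne.AT
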